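import Cfsg.Agent.Lib.Spor.SchurCert.MatTable
import Cfsg.Agent.Lib.Spor.CoTwoMult.Data
import Cfsg.Agent.Lib.Spor.Leech.Census.Data.Gens
import Cfsg.Agent.Lib.Spor.Leech.Stabilizers

/-!
The table as elements of the stabilizer of the marked vector.
-/

set_option autoImplicit false
set_option maxRecDepth 100000
set_option maxHeartbeats 0

namespace CfsgLib.Spor.CoTwoMult

open Cfsg MulAction CfsgLib.Spor.Leech CfsgLib.Spor.Leech.Census32 CfsgLib.Spor.SchurCert.MatBridge

/-- The automorphisms. -/
noncomputable def elts : List Co0 := extendE ops baseElts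

theorem table_check : (extendM ops baseMats == mats) = true ∧
    ((List.range mats.length).all fun k =>
      Nat.blt k 15 || Nat.beq (step (mats.getD k oneMat) markCode) markCode) = true := by
  decide +kernel

theorem isMat_elts : ∀ k, IsMat (elts.getD k 1) (mats.getD k oneMat) := by
  have h := isMat_extend ops baseElts baseMats (by rfl) isMat_base
  rw [eq_of_beq table_check.1] at h
  exact h

theorem mark_code : enc (Spor.leechU : GolayPt → ℤ) = markCode ∧
    sqNorm (Spor.leechU : GolayPt → ℤ) = 32 := by decide +kernel

/-- The stabilizer of the marked vector. -/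
abbrev G0 : Subgroup Co0 := stabilizer Co0 Spor.leechU

theorem elts_mem : ∀ k, 15 ≤ k → elts.getD k 1 ∈ G0 := by
  intro k hk
  rcases Nat.lt_or_ge k mats.length with hl | hl
  · have h := table_check.2
    simp only [List.all_eq_true, List.mem_range, Bool.or_eq_true] at h
    rcases h k hl with h | h
    · exact absurd (Nat.le_of_ble_eq_true h) (by omega)
    · rw [← mark_code.1] at h
      exact mem_stabilizer_iff.2 (fix_of_step (isMat_elts k) (by rw [mark_code.2]; norm_num) h)
  · have hlen : (elts.length : ℕ) = mats.length := by
      have : ∀ (ws : List (List ℕ)) (acc : List Co0), (extendE ws acc).length = acc.length + ws.length := by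
        intro ws
        induction ws with
        | nil => intro acc; rfl
        | cons w ws ih => intro acc; rw [extendE, ih]; simp; omega
      rw [elts, this]
      rfl
    rw [List.getD_eq_default _ _ (by omega)]
    exact one_mem _

/-- The vector the orbits start from. -/
def startVec : leechLattice := ⟨fun p => if p = idxPt 1 ∨ p = idxPt 23 then 4 else 0,
  leechTest_spec (by decide +kernel)⟩

theorem start_code : enc (startVec : GolayPt → ℤ) = startCode ∧
    sqNorm (startVec : GolayPt → ℤ) = 32 := by decide +kernel

theorem card_G0 : Nat.card ↥G0 = 42305421312000 := card_stab32 mark_code.2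

theorem nonempty_equiv : Nonempty (↥Spor.Co2 ≃* ↥G0) := by
  have hle : Spor.Co2 ≤ Co0 := fun x hx => hx.1
  refine ⟨(Subgroup.subgroupOfEquivOfLe hle).symm.trans (MulEquiv.subgroupCongr ?_)⟩
  ext g
  simp only [Subgroup.mem_subgroupOf, Spor.Co2, Subgroup.mem_inf, mem_stabilizer_iff]
  exact ⟨fun a => a.2, fun a => ⟨g.2, a⟩⟩

end CfsgLib.Spor.CoTwoMult
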