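import Cfsg.Agent.Lib.Spor.SchurCert.MatBridge
import Cfsg.Agent.Lib.Spor.SchurCert.LinTwo
import Cfsg.Agent.Lib.Spor.CoTwoMult.Data

/-!
The certificate at the prime 11: a polycyclic sequence of a Sylow subgroup and conjugations killing the tails.
-/

set_option autoImplicit false
set_option maxRecDepth 100000
set_option maxHeartbeats 0

namespace CfsgLib.Spor.CoTwoMult.P11

open CfsgLib.Spor.SchurCert CfsgLib.Spor.SchurCert.MatBridge

/-- The Sylow elements. -/
def sw : List (List ℕ) := [
    [106]]

/-- The conjugating elements. -/
def gw : List (List ℕ) := [
    [107]]

/-- The certificate. -/
def cert : SchurCert.Cert where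
  p := 11
  m := 1
  N := 11
  rules := [
    ([0, 0, 0, 0, 0, 0, 0, 0, 0, 0, 0], [])]
  maps := [
    [([0], [0, 0])]]
  overlaps := []
  fuses := [
    ⟨0, [0, 0, 0, 0, 0, 0, 0, 0, 0, 0, 0], [], [(0, 0)], [], [(0, 0), (0, 0)], []⟩]
  adj := [
    []]
  base := []
  dense := [
    [10]]
  tgt := [
    ([], [(0, 10)])]

/-- Orbits inside the subgroup. -/
def orbits : List (List ℕ × List (ℕ × List ℕ)) := [
    ([], [(84422585336594802070793412770489130109546560193499700056058879035661856263078672500321367767661311416764560, [0, 0]), (93802409406464626572956853328464260187946025784315993504570278210647017569028261099031267431147903896970688, [0, 0, 0, 0, 0]), (93802409406464908906912389324689234928542910720688405215515861614720392438840693203505043139415919539197548, [0, 0, 0, 0, 0, 0, 0, 0, 0, 0]), (93802409406464908913883253863131687769754223663777262062751454173924709017320195050638491673733529716222324, [0, 0, 0, 0, 0, 0, 0, 0, 0]), (93802409417900281107986844420591693729299627756524815912902936524112956126462053863567039043596574304994296, [0, 0, 0]), (93802409417900563448913072852145004354681905473730118646984804708085207923869939327405335818710730785637880, [0, 0, 0, 0, 0, 0]), (93802872584780823574539030946852457284411079985992137730845075304470020452856059874769094108374098968652160,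 [0]), (103182696666086302604761598067011067602205830203509633085409320156522327969766578042895810226628670692828872, [0, 0, 0, 0, 0, 0, 0]), (103182696666086302611732634708567637397252708109801044363969731258209470429839103520375771468713863599041072, [0, 0, 0, 0]), (103182696666086302611732634712816992080150396297571803437980589856211607253993468803501630561759377691018076, [0, 0, 0, 0, 0, 0, 0, 0]), (112562520735956409447851611267016991984580410813578825706846029514451041733003352209561054719109825197653240, [])])]

theorem gw_ok : (gw.all fun s => s.all fun k => Nat.ble 15 k) = true := by decide +kernel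

theorem ident_ok : identMat mats 15 cert sw gw = true := by decide +kernel

theorem sub_ok : subMatOK mats startCode sw [] orbits = true := by decide +kernel

theorem shape_ok : cert.shapeOK = true := by decide +kernel

theorem lin_ok : cert.linOK = true := by decide +kernel

theorem prod_ok : cert.p ^ cert.m ≤ (orbits.map fun e => e.2.length).prod := by decide +kernel

end CfsgLib.Spor.CoTwoMult.P11
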