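import Cfsg.Agent.Lib.Spor.SchurCert.MatBridge
import Cfsg.Agent.Lib.Spor.SchurCert.LinTwo
import Cfsg.Agent.Lib.Spor.CoTwoMult.Data

/-!
The certificate at the prime 7: a polycyclic sequence of a Sylow subgroup and conjugations killing the tails.
-/

set_option autoImplicit false
set_option maxRecDepth 100000
set_option maxHeartbeats 0

namespace CfsgLib.Spor.CoTwoMult.P7

open CfsgLib.Spor.SchurCert CfsgLib.Spor.SchurCert.MatBridge

/-- The Sylow elements. -/
def sw : List (List ℕ) := [
    [104]]

/-- The conjugating elements. -/
def gw : List (List ℕ) := [
    [105]]

/-- The certificate. -/
def cert : SchurCert.Cert where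
  p := 7
  m := 1
  N := 7
  rules := [
    ([0, 0, 0, 0, 0, 0, 0], [])]
  maps := [
    [([0], [0, 0])]]
  overlaps := []
  fuses := [
    ⟨0, [0, 0, 0, 0, 0, 0, 0], [], [(0, 0)], [], [(0, 0), (0, 0)], []⟩]
  adj := [
    []]
  base := []
  dense := [
    [6]]
  tgt := [
    ([], [(0, 6)])]

/-- Orbits inside the subgroup. -/
def orbits : List (List ℕ × List (ℕ × List ℕ)) := [
    ([], [(93801946228148994246256612236719215640374247632905034949926649745819466584721133097530254724058495681172468, [0]), (93802409406464908906912389324689234923362456131708986801439539026303529815418795283093352014583666516520948, [0, 0, 0, 0, 0, 0]), (93802409406464908906912389324689234925952747377691003016304012503861126201974522467942495890446952008497856, [0, 0, 0]), (93802409406464908913883253863131687764573705123305458673699381074664504130267201208879084825485452793617088, [0, 0, 0, 0]), (103182233476335015750002230417331687674184238178205274130607577031705990779147033003687986835151646650170876, [0, 0]), (103182696654650648062760742432191931448719335820291110878102684481809837385367180442200278047682349810070140, [0, 0, 0, 0, 0]), (112562520735956409447851611267016991984580410813578825706846029514451041733003352209561054719109825197653240,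 [])])]

theorem gw_ok : (gw.all fun s => s.all fun k => Nat.ble 15 k) = true := by decide +kernel

theorem ident_ok : identMat mats 15 cert sw gw = true := by decide +kernel

theorem sub_ok : subMatOK mats startCode sw [] orbits = true := by decide +kernel

theorem shape_ok : cert.shapeOK = true := by decide +kernel

theorem lin_ok : cert.linOK = true := by decide +kernel

theorem prod_ok : cert.p ^ cert.m ≤ (orbits.map fun e => e.2.length).prod := by decide +kernel

end CfsgLib.Spor.CoTwoMult.P7
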