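import Cfsg.Agent.Lib.Spor.CoTwoMult.Table
import Cfsg.Agent.Lib.Spor.CoTwoMult.P2
import Cfsg.Agent.Lib.Spor.CoTwoMult.P3
import Cfsg.Agent.Lib.Spor.CoTwoMult.P5
import Cfsg.Agent.Lib.Spor.CoTwoMult.P7
import Cfsg.Agent.Lib.Spor.CoTwoMult.P11
import Cfsg.Agent.Lib.Spor.CoTwoMult.P23
import Cfsg.Agent.Lib.Lie.Mult.Sylow

/-!
The Schur multiplier of the second Conway group is trivial: a certificate at each prime dividing the order.
-/

set_option autoImplicit false
set_option maxRecDepth 20000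

namespace CfsgLib.Spor.CoTwoMult

open Cfsg CfsgLib.Spor.SchurCert CfsgLib.Spor.SchurCert.MatBridge CfsgLib.Spor.Leech

theorem factor_of {p a b : ℕ} (hp : p.Prime) (hb : ¬ p ∣ b) (e : (42305421312000 : ℕ) = p ^ a * b) :
    (42305421312000 : ℕ).factorization p = a := by
  have h0 : b ≠ 0 := by rintro rfl; simp at e
  rw [e, Nat.factorization_mul (pow_ne_zero _ hp.ne_zero) h0, Nat.factorization_pow, Finsupp.add_apply,
    Finsupp.smul_apply, hp.factorization_self, Nat.factorization_eq_zero_of_not_dvd hb]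
  simp

theorem ker_eq_bot [Finite Co0] {Γ : Type*} [Group Γ] [Finite Γ] (σ : Γ →* ↥G0) (hσ : Cfsg.IsStemExtension σ) :
    σ.ker = ⊥ := by
  refine Lie.Mult.ker_eq_bot_of_forall fun ℓ hℓ => ?_
  have : Fact ℓ.Prime := ⟨hℓ⟩
  by_cases h2c : ℓ = 2
  · subst h2c
    haveI : Fact P2.cert.p.Prime := ⟨by rw [show P2.cert.p = 2 from rfl]; norm_num⟩
    obtain ⟨γ, conj, h1, h2, h3, h4⟩ := mat_facts (H := G0) isMat_elts elts_mem (x0 := startVec)
      (by rw [start_code.2]; norm_num) start_code.1 P2.cert P2.sw P2.gw P2.orbits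
      (by rw [card_G0]; exact factor_of (p := 2) (a := 18) (b := 161382375) (by norm_num) (by norm_num) (by norm_num))
      P2.gw_ok P2.ident_ok P2.sub_ok P2.prod_ok P2.shape_ok
    exact not_dvd_ker_mask P2.cert hσ rfl P2.lin_ok γ conj h1 h2 P2.shape_ok h3 h4
  by_cases h3c : ℓ = 3
  · subst h3c
    haveI : Fact P3.cert.p.Prime := ⟨by rw [show P3.cert.p = 3 from rfl]; norm_num⟩
    obtain ⟨γ, conj, h1, h2, h3, h4⟩ := mat_facts (H := G0) isMat_elts elts_mem (x0 := startVec)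
      (by rw [start_code.2]; norm_num) start_code.1 P3.cert P3.sw P3.gw P3.orbits
      (by rw [card_G0]; exact factor_of (p := 3) (a := 6) (b := 58032128000) (by norm_num) (by norm_num) (by norm_num))
      P3.gw_ok P3.ident_ok P3.sub_ok P3.prod_ok P3.shape_ok
    exact not_dvd_ker P3.cert hσ rfl rfl γ conj h1 h2 P3.shape_ok P3.lin_ok h3 h4
  by_cases h5c : ℓ = 5
  · subst h5c
    haveI : Fact P5.cert.p.Prime := ⟨by rw [show P5.cert.p = 5 from rfl]; norm_num⟩
    obtain ⟨γ, conj, h1, h2, h3, h4⟩ := mat_facts (H := G0) isMat_elts elts_mem (x0 := startVec)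
      (by rw [start_code.2]; norm_num) start_code.1 P5.cert P5.sw P5.gw P5.orbits
      (by rw [card_G0]; exact factor_of (p := 5) (a := 3) (b := 338443370496) (by norm_num) (by norm_num) (by norm_num))
      P5.gw_ok P5.ident_ok P5.sub_ok P5.prod_ok P5.shape_ok
    exact not_dvd_ker P5.cert hσ rfl rfl γ conj h1 h2 P5.shape_ok P5.lin_ok h3 h4
  by_cases h7c : ℓ = 7
  · subst h7c
    haveI : Fact P7.cert.p.Prime := ⟨by rw [show P7.cert.p = 7 from rfl]; norm_num⟩
    obtain ⟨γ, conj, h1, h2, h3, h4⟩ := mat_facts (H := G0) isMat_elts elts_mem (x0 := startVec)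
      (by rw [start_code.2]; norm_num) start_code.1 P7.cert P7.sw P7.gw P7.orbits
      (by rw [card_G0]; exact factor_of (p := 7) (a := 1) (b := 6043631616000) (by norm_num) (by norm_num) (by norm_num))
      P7.gw_ok P7.ident_ok P7.sub_ok P7.prod_ok P7.shape_ok
    exact not_dvd_ker P7.cert hσ rfl rfl γ conj h1 h2 P7.shape_ok P7.lin_ok h3 h4
  by_cases h11c : ℓ = 11
  · subst h11c
    haveI : Fact P11.cert.p.Prime := ⟨by rw [show P11.cert.p = 11 from rfl]; norm_num⟩
    obtain ⟨γ, conj, h1, h2, h3, h4⟩ := mat_facts (H := G0) isMat_elts elts_mem (x0 := startVec)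
      (by rw [start_code.2]; norm_num) start_code.1 P11.cert P11.sw P11.gw P11.orbits
      (by rw [card_G0]; exact factor_of (p := 11) (a := 1) (b := 3845947392000) (by norm_num) (by norm_num) (by norm_num))
      P11.gw_ok P11.ident_ok P11.sub_ok P11.prod_ok P11.shape_ok
    exact not_dvd_ker P11.cert hσ rfl rfl γ conj h1 h2 P11.shape_ok P11.lin_ok h3 h4
  by_cases h23c : ℓ = 23
  · subst h23c
    haveI : Fact P23.cert.p.Prime := ⟨by rw [show P23.cert.p = 23 from rfl]; norm_num⟩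
    obtain ⟨γ, conj, h1, h2, h3, h4⟩ := mat_facts (H := G0) isMat_elts elts_mem (x0 := startVec)
      (by rw [start_code.2]; norm_num) start_code.1 P23.cert P23.sw P23.gw P23.orbits
      (by rw [card_G0]; exact factor_of (p := 23) (a := 1) (b := 1839366144000) (by norm_num) (by norm_num) (by norm_num))
      P23.gw_ok P23.ident_ok P23.sub_ok P23.prod_ok P23.shape_ok
    exact not_dvd_ker P23.cert hσ rfl rfl γ conj h1 h2 P23.shape_ok P23.lin_ok h3 h4
  refine Lie.Mult.not_dvd_ker_of_cyclic hσ ⊥ ?_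
  rw [Subgroup.index_bot, card_G0]
  intro hd
  have e : (42305421312000 : ℕ) = ([(2, 18), (3, 6), (5, 3), (7, 1), (11, 1), (23, 1)].map fun t : ℕ × ℕ => t.1 ^ t.2).prod := by norm_num
  rw [e] at hd
  obtain ⟨x, hx, hd⟩ := hℓ.prime.dvd_prod_iff.1 hd
  obtain ⟨t, ht, rfl⟩ := List.mem_map.1 hx
  have hd' := hℓ.dvd_of_dvd_pow hd
  simp only [List.mem_cons, List.not_mem_nil, or_false] at ht
  rcases ht with rfl | rfl | rfl | rfl | rfl | rfl
  · exact h2c ((Nat.prime_dvd_prime_iff_eq hℓ (by norm_num)).1 hd')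
  · exact h3c ((Nat.prime_dvd_prime_iff_eq hℓ (by norm_num)).1 hd')
  · exact h5c ((Nat.prime_dvd_prime_iff_eq hℓ (by norm_num)).1 hd')
  · exact h7c ((Nat.prime_dvd_prime_iff_eq hℓ (by norm_num)).1 hd')
  · exact h11c ((Nat.prime_dvd_prime_iff_eq hℓ (by norm_num)).1 hd')
  · exact h23c ((Nat.prime_dvd_prime_iff_eq hℓ (by norm_num)).1 hd')

theorem multiplier_Co2 : Cfsg.HasCyclicSchurMultiplier ↥Cfsg.Spor.Co2 1 := by
  obtain ⟨e⟩ := nonempty_equiv
  have : Finite ↥G0 := Nat.finite_of_card_ne_zero (by rw [card_G0]; norm_num)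
  have : Finite ↥Cfsg.Spor.Co2 := Finite.of_equiv _ e.symm.toEquiv
  exact Lie.Mult.hasCyclic_one_congr e.symm fun Γ _ _ σ hσ => ker_eq_bot σ hσ

end CfsgLib.Spor.CoTwoMult
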